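import Groth.Agent.LeadTBC.Local

/-!
# The pairing on cohomology over a pair of affine opens
-/

set_option autoImplicit false
set_option linter.style.haveILetI false
set_option linter.unusedSectionVars false

noncomputable section

universe u

open CategoryTheory CategoryTheory.Limits CategoryTheory.Abelian AlgebraicGeometry Opposite TopologicalSpace TensorProduct
open Groth.Agent.H10Coh Groth.Agent.H10Coh.FBC Groth.Agent.H11Ample Groth.Agent.H8Props.PullSections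

namespace Groth.Agent.LeadTBC

attribute [local instance 10000] hasSheafifyAb hasWeakSheafifyAb hasExtAb enoughInjAb

variable {X S X' S' : Scheme.{u}} {f : X ⟶ S} {g : S' ⟶ S} {g' : X' ⟶ X} {f' : X' ⟶ S'}
  (h : IsPullback g' f' f g) {V : S.Opens} {V' : S'.Opens} (hle : V' ≤ g ⁻¹ᵁ V)
  {G : S'.Modules} {R : MRes X} {R' : MRes X'}
  (D : GData g' ((Scheme.Modules.pullback f').obj G) R R') (hV : IsAffineOpen V) (hV' : IsAffineOpen V')
  (hF : Coh.IsQCoh (R.Z 0)) (hG : Coh.IsQCoh G) [IsIso (D.α 0)]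

include D hF hG in
theorem isQuasicoherent_Z₀ : (R'.Z 0).IsQuasicoherent :=
  haveI := H29Fitt.isQCoh_pullback f' G hG
  haveI := H29Fitt.isQCoh_pullback g' (R.Z 0) hF
  haveI : ((Φ g' ((Scheme.Modules.pullback f').obj G)).obj (R.Z 0)).IsQuasicoherent :=
    H10Coh.TT.isQCoh_tensorMod ((Scheme.Modules.pullback f').obj G) ((Scheme.Modules.pullback g').obj (R.Z 0))
  isQuasicoherent_of_iso (asIso (D.α 0))

include D hV hV' hF hG in
theorem epi_push_res (n : ℕ) :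
    Epi ((CohTop.push (qLoc h hle).base).map ((R'.restrict (f' ⁻¹ᵁ V').ι).toF.p n)) := by
  letI := (g.appLE V V' hle).hom.toAlgebra
  letI := overV f hV
  letI := overV f' hV'
  haveI := LeadFF.isAffineHom_fst (isPullback_qLoc h hle hV hV')
  haveI : ((R'.restrict (f' ⁻¹ᵁ V').ι).Z 0).IsQuasicoherent :=
    @Scheme.Modules.isQuasicoherent_restrictFunctor _ _ (f' ⁻¹ᵁ V').ι _ (R'.Z 0) (isQuasicoherent_Z₀ D hF hG)
  exact (R'.restrict (f' ⁻¹ᵁ V').ι).toF.epi_push_p (qLoc h hle).base (affB _) (isBasis_affB _)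
    (fun W hW k => subsingleton_HnM_of_isAffineOpen _ (hW.preimage (qLoc h hle)) k) n

include hV' hF hG in
theorem good_top [QuasiCompact f] [QuasiSeparated f] (hGf : FlatMod.IsFlatOver g G) :
    letI := overV f hV
    letI := Module.compHom Γ(G, V') (g.appLE V V' hle).hom
    haveI : ((R.restrict (f ⁻¹ᵁ V).ι).Z 0).IsQuasicoherent :=
      @Scheme.Modules.isQuasicoherent_restrictFunctor _ _ (f ⁻¹ᵁ V).ι _ (R.Z 0) hF
    LeadFBC.Good (LeadFBC.ρF Γ(S, V) ((R.restrict (f ⁻¹ᵁ V).ι).Z 0)) (M := ModuleCat.of Γ(S, V) Γ(G, V'))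
      (μ₀ h hle D) (μ₀_smul h hle D hV) (Zsh (⊤ : (f ⁻¹ᵁ V).toScheme.Opens)) := by
  letI := (g.appLE V V' hle).hom.toAlgebra
  letI := overV f hV
  letI := overV f' hV'
  letI : Module Γ(S, V) Γ(G, V') := Module.compHom Γ(G, V') (g.appLE V V' hle).hom
  haveI : ((R.restrict (f ⁻¹ᵁ V).ι).Z 0).IsQuasicoherent :=
    @Scheme.Modules.isQuasicoherent_restrictFunctor _ _ (f ⁻¹ᵁ V).ι _ (R.Z 0) hF
  haveI := LeadFF.isAffineHom_fst (isPullback_qLoc h hle hV hV')
  haveI : ((R'.restrict (f' ⁻¹ᵁ V').ι).Z 0).IsQuasicoherent :=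
    @Scheme.Modules.isQuasicoherent_restrictFunctor _ _ (f' ⁻¹ᵁ V').ι _ (R'.Z 0) (isQuasicoherent_Z₀ D hF hG)
  haveI : ((Scheme.Modules.pushforward (qLoc h hle)).obj ((R'.restrict (f' ⁻¹ᵁ V').ι).Z 0)).IsQuasicoherent :=
    isQuasicoherent_pushforward_of_isAffineHom _ _
  haveI := qs_preimage (f := f) hV
  haveI : Module.Flat Γ(S, V) (ModuleCat.of Γ(S, V) Γ(G, V')) :=
    (H8Props.FlatLocus.flat_sections_over_iff g G hG hV hV' hle).2 fun x => hGf x.1
  haveI : CompactSpace (f ⁻¹ᵁ V).toScheme :=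
    isCompact_iff_compactSpace.1 (QuasiCompact.isCompact_preimage (f := f) _ V.2 hV.isCompact)
  exact LeadFBC.good_of_isCompact Γ(S, V) _ _ _ _ (fun U hU =>
    LeadFBC.good_affine_gen Γ(S, V) _ _ _ _ hU (bijective_pairSec h hle D hV hV' hF hG hU)
      (subsingleton_HnM_of_isAffineOpen
        ((Scheme.Modules.pushforward (qLoc h hle)).obj ((R'.restrict (f' ⁻¹ᵁ V').ι).Z 0)) hU)) ⊤
    (by simpa using isCompact_univ)

include hV hV' hF hG in
/-- A bilinear map computed by the pairing of cocycles is bijective. -/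
theorem bijective_of_cocycles [QuasiCompact f] [QuasiSeparated f] (hGf : FlatMod.IsFlatOver g G) (n : ℕ)
    {P P' : Type u} [AddCommGroup P] [Module Γ(S, V) P] [AddCommGroup P']
    (πS : Γ(R.Z n, f ⁻¹ᵁ V) →+ P) (hπS : Function.Surjective πS)
    (hlin : ∀ (a : Γ(S, V)) z, πS (f.app V a • z) = a • πS z)
    (hS0 : ∀ z, πS z = 0 ↔ Bd R n z)
    (πT : Γ(R'.Z n, f' ⁻¹ᵁ V') →+ P') (hπT : Function.Surjective πT)
    (hT0 : ∀ z, πT z = 0 ↔ Bd R' n z) :
    letI := Module.compHom Γ(G, V') (g.appLE V V' hle).hom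
    ∀ L : Γ(G, V') ⊗[Γ(S, V)] P →+ P', (∀ m z, L (m ⊗ₜ πS z) =
      πT (pr (D.α n) (preimage_le_preimage h hle) (OmegaSh.pullSect f' G V' m) z)) → Function.Bijective L := by
  letI := (g.appLE V V' hle).hom.toAlgebra
  letI := overV f hV
  letI : Module Γ(S, V) Γ(G, V') := Module.compHom Γ(G, V') (g.appLE V V' hle).hom
  haveI : ((R.restrict (f ⁻¹ᵁ V).ι).Z 0).IsQuasicoherent :=
    @Scheme.Modules.isQuasicoherent_restrictFunctor _ _ (f ⁻¹ᵁ V).ι _ (R.Z 0) hF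
  intro L hL
  let RV := R.restrict (f ⁻¹ᵁ V).ι
  let RV' := R'.restrict (f' ⁻¹ᵁ V').ι
  have hepi := epi_push_res h hle D hV hV' hF hG
  have e : (f ⁻¹ᵁ V).ι ''ᵁ ⊤ = f ⁻¹ᵁ V := image_ι_top _
  have e' : (f' ⁻¹ᵁ V').ι ''ᵁ ((qLoc h hle) ⁻¹ᵁ ⊤) = f' ⁻¹ᵁ V' := image_qLoc_top h hle
  -- the source
  let cS : Γ(R.Z n, f ⁻¹ᵁ V) →+
      LeadFBC.extMod (LeadFBC.ρF Γ(S, V) (RV.Z 0)) (Zsh (⊤ : (f ⁻¹ᵁ V).toScheme.Opens)) n :=
    AddMonoidHom.mk' (fun z => FRes.cls n RV.toF ⊤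
        (show Γ(RV.Z n, (⊤ : (f ⁻¹ᵁ V).toScheme.Opens)) from rs (R.Z n) e.le z))
      fun a b => by rw [map_add]; exact map_add (FRes.cls n RV.toF (⊤ : (f ⁻¹ᵁ V).toScheme.Opens)) _ _
  have hcS : Function.Surjective cS := fun x => by
    obtain ⟨y, rfl⟩ := FRes.cls_surjective n RV.toF (⊤ : (f ⁻¹ᵁ V).toScheme.Opens) x
    refine ⟨rs (R.Z n) e.ge (show Γ(R.Z n, (f ⁻¹ᵁ V).ι ''ᵁ ⊤) from y), ?_⟩
    exact congrArg (FRes.cls n RV.toF (⊤ : (f ⁻¹ᵁ V).toScheme.Opens)) ((rs_rs _ _ _ _).trans (rs_self _ _ _))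
  have hcS0 : ∀ z, cS z = 0 ↔ Bd R n z := fun z => by
    refine (Bd.iff_cls RV n _).symm.trans ?_
    cases n with
    | zero =>
      refine ⟨fun h0 => ?_, fun h0 => ?_⟩
      · exact ((rs_rs (R.Z 0) e.le e.ge z).trans (rs_self _ _ z)).symm.trans
          ((congrArg (rs (R.Z 0) e.ge) h0).trans (map_zero _))
      · exact (congrArg (rs (R.Z 0) e.le) (show z = 0 from h0)).trans (map_zero _)
    | succ n =>
      refine (Bd_restrict R _ n _ _).trans ⟨fun h0 => ?_, fun h0 => Bd.res R (n + 1) e.le h0⟩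
      exact (congrArg (Bd R (n + 1)) ((rs_rs (R.Z (n + 1)) e.le e.ge z).trans (rs_self _ _ _))).mp
        (Bd.res R (n + 1) e.ge h0)
  have hclin : ∀ (a : Γ(S, V)) z, cS (f.app V a • z) = a • cS z := fun a z => by
    refine Eq.trans (congrArg (FRes.cls n RV.toF (⊤ : (f ⁻¹ᵁ V).toScheme.Opens)) ?_)
      (cls_smul RV n ⊤ (globA a) _)
    refine (Scheme.Modules.map_smul (R.Z n) (homOfLE e.le) (f.app V a) z).trans ?_
    refine Eq.trans ?_ (smul_sec hV (R.Z n) ⊤ a (rs (R.Z n) e.le z)).symm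
    rw [Scheme.Hom.app_eq_appLE, ← CommRingCat.comp_apply, Scheme.Hom.appLE_map]
    rfl
  have hker : πS.ker = cS.ker := AddSubgroup.ext fun z => (hS0 z).trans (hcS0 z).symm
  let eS₀ := (QuotientAddGroup.quotientKerEquivOfSurjective πS hπS).symm.trans
    ((QuotientAddGroup.quotientAddEquivOfEq hker).trans (QuotientAddGroup.quotientKerEquivOfSurjective cS hcS))
  have heS : ∀ z, eS₀ (πS z) = cS z := fun z => by
    have h1 : (QuotientAddGroup.quotientKerEquivOfSurjective πS hπS).symm (πS z) = QuotientAddGroup.mk z :=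
      (AddEquiv.symm_apply_eq _).2 rfl
    show (QuotientAddGroup.quotientKerEquivOfSurjective cS hcS) (QuotientAddGroup.quotientAddEquivOfEq hker
      ((QuotientAddGroup.quotientKerEquivOfSurjective πS hπS).symm (πS z))) = cS z
    rw [h1]
    rfl
  let eS : P ≃ₗ[Γ(S, V)]
      LeadFBC.extMod (LeadFBC.ρF Γ(S, V) (RV.Z 0)) (Zsh (⊤ : (f ⁻¹ᵁ V).toScheme.Opens)) n :=
    { eS₀ with
      map_smul' := fun a p => by
        obtain ⟨z, rfl⟩ := hπS p
        show eS₀ (a • πS z) = a • eS₀ (πS z)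
        rw [← hlin, heS, heS, hclin] }
  -- the target
  let cT : Γ(R'.Z n, f' ⁻¹ᵁ V') →+ Hn (sh (RV'.Z 0)) n ((qLoc h hle) ⁻¹ᵁ ⊤) :=
    AddMonoidHom.mk' (fun z => FRes.cls n RV'.toF ((qLoc h hle) ⁻¹ᵁ ⊤)
        (show Γ(RV'.Z n, (qLoc h hle) ⁻¹ᵁ ⊤) from rs (R'.Z n) e'.le z))
      fun a b => by rw [map_add]; exact map_add (FRes.cls n RV'.toF ((qLoc h hle) ⁻¹ᵁ ⊤)) _ _
  have hcT0 : ∀ z, cT z = 0 ↔ Bd R' n z := fun z => by
    refine (Bd.iff_cls RV' n _).symm.trans ?_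
    cases n with
    | zero =>
      refine ⟨fun h0 => ?_, fun h0 => ?_⟩
      · exact ((rs_rs (R'.Z 0) e'.le e'.ge z).trans (rs_self _ _ z)).symm.trans
          ((congrArg (rs (R'.Z 0) e'.ge) h0).trans (map_zero _))
      · exact (congrArg (rs (R'.Z 0) e'.le) (show z = 0 from h0)).trans (map_zero _)
    | succ n =>
      refine (Bd_restrict R' _ n _ _).trans ⟨fun h0 => ?_, fun h0 => Bd.res R' (n + 1) e'.le h0⟩
      exact (congrArg (Bd R' (n + 1)) ((rs_rs (R'.Z (n + 1)) e'.le e'.ge z).trans (rs_self _ _ _))).mp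
        (Bd.res R' (n + 1) e'.ge h0)
  let qe := (hepi : ∀ k, Epi ((CohTop.push (qLoc h hle).base).map (RV'.toF.p k)))
  let Θ := (RV'.toF.pushEquiv (qLoc h hle).base qe n ⊤).toAddMonoidHom.comp
    (LeadFBC.θ (LeadFBC.ρF Γ(S, V) (RV.Z 0)) (M := ModuleCat.of Γ(S, V) Γ(G, V'))
      (μ₀ h hle D) (μ₀_smul h hle D hV) (Zsh (⊤ : (f ⁻¹ᵁ V).toScheme.Opens)) n)
  have hΘ : Function.Bijective Θ := (RV'.toF.pushEquiv (qLoc h hle).base qe n ⊤).bijective.comp
    (good_top h hle D hV hV' hF hG hGf n)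
  let T := TensorProduct.congr (LinearEquiv.refl Γ(S, V) Γ(G, V')) eS
  have hkerT : πT.ker ≤ cT.ker := fun z hz => (hcT0 z).2 ((hT0 z).1 hz)
  let ε : P' →+ Hn (sh (RV'.Z 0)) n ((qLoc h hle) ⁻¹ᵁ ⊤) :=
    (QuotientAddGroup.lift πT.ker cT hkerT).comp
      (QuotientAddGroup.quotientKerEquivOfSurjective πT hπT).symm.toAddMonoidHom
  have hε : ∀ z, ε (πT z) = cT z := fun z => by
    have h1 : (QuotientAddGroup.quotientKerEquivOfSurjective πT hπT).symm (πT z) = QuotientAddGroup.mk z :=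
      (AddEquiv.symm_apply_eq _).2 rfl
    show QuotientAddGroup.lift πT.ker cT hkerT ((QuotientAddGroup.quotientKerEquivOfSurjective πT hπT).symm (πT z)) = _
    rw [h1]
    rfl
  have hεi : Function.Injective ε := (injective_iff_map_eq_zero ε).2 fun p hp => by
    obtain ⟨z, rfl⟩ := hπT p
    exact (hT0 z).2 ((hcT0 z).1 ((hε z).symm.trans hp))
  have key : ∀ x, ε (L x) = Θ (T x) := fun x => by
    induction x using TensorProduct.induction_on with
    | zero => simp only [map_zero]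
    | add a b ha hb => simp only [map_add, ha, hb]
    | tmul m p =>
      obtain ⟨z, rfl⟩ := hπS p
      rw [hL, hε]
      show _ = RV'.toF.pushEquiv (qLoc h hle).base qe n ⊤
        ((show Hn (sh (RV.Z 0)) n ⊤ from eS (πS z)).comp (Ext.mk₀ (μ₀ h hle D m)) (add_zero n))
      rw [show eS (πS z) = cS z from heS z]
      refine Eq.trans ?_ (congrArg (RV'.toF.pushEquiv (qLoc h hle).base qe n ⊤)
        (FRes.cls_map n (homRes h hle D qe m) ⊤ (show Γ(RV.Z n, (⊤ : (f ⁻¹ᵁ V).toScheme.Opens)) from rs (R.Z n) e.le z)))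
      refine Eq.trans ?_ (FRes.pushEquiv_cls (qLoc h hle).base RV'.toF qe n ⊤ _).symm
      refine congrArg (FRes.cls n RV'.toF ((qLoc h hle) ⁻¹ᵁ ⊤)) ?_
      exact pr_res (D.α n) (preimage_le_preimage h hle) (image_preimage_le (qLoc_w h hle) ⊤) e'.le e.le _ z
  have hεL : Function.Bijective (ε ∘ L) := by
    rw [show ε ∘ L = Θ ∘ T from funext key]
    exact hΘ.comp T.bijective
  exact ⟨hεL.1.of_comp, (Function.Surjective.of_comp_left hεL.2 hεi)⟩

end Groth.Agent.LeadTBC
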