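import Groth.Agent.LeadTBC.Pairing
import Groth.Agent.LeadFBC.Sheaf
import Groth.Agent.H10Coh.AffinePush
import Groth.Agent.H8Props.FlatLocus.Sections
import Groth.Agent.H29Fitt.PullbackQCoh

/-!
# Base change with coefficients over a pair of affine opens

Over affine opens `V' ≤ g⁻¹ V`, pairing with the sections of `G` over `V'` makes
`Γ(G, V') ⊗ H^n(f⁻¹V, F) → H^n(f'⁻¹V', f'^* G ⊗ g'^* F)` bijective.
-/

set_option autoImplicit false
set_option linter.style.haveILetI false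
set_option linter.unusedSectionVars false

noncomputable section

universe u

open CategoryTheory CategoryTheory.Limits CategoryTheory.Abelian AlgebraicGeometry Opposite TopologicalSpace TensorProduct
open Groth.Agent.H10Coh Groth.Agent.H10Coh.FBC Groth.Agent.H11Ample Groth.Agent.H8Props.PullSections

namespace Groth.Agent.LeadTBC

attribute [local instance 10000] hasSheafifyAb hasWeakSheafifyAb hasExtAb enoughInjAb

variable {X S X' S' : Scheme.{u}} {f : X ⟶ S} {g : S' ⟶ S} {g' : X' ⟶ X} {f' : X' ⟶ S'}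
  (h : IsPullback g' f' f g) {V : S.Opens} {V' : S'.Opens} (hle : V' ≤ g ⁻¹ᵁ V)

section prSh

variable {Q : X'.Modules} {N : X.Modules} {N' : X'.Modules}

/-- The image in `X'` of the preimage of an open of the chart. -/
abbrev W₁ (W : (f ⁻¹ᵁ V).toScheme.Opens) : X'.Opens := (f' ⁻¹ᵁ V').ι ''ᵁ ((qLoc h hle) ⁻¹ᵁ W)

/-- Pairing with a section over `f'⁻¹ V'`, as a map to the direct image. -/
def prSh (φ : (Φ g' Q).obj N ⟶ N') (t : Γ(Q, f' ⁻¹ᵁ V')) :
    sh (N.restrict (f ⁻¹ᵁ V).ι) ⟶ (CohTop.push (qLoc h hle).base).obj (sh (N'.restrict (f' ⁻¹ᵁ V').ι)) :=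
  ⟨{ app := fun W => AddCommGrpCat.ofHom (AddMonoidHom.mk'
        (fun z : Γ(N, (f ⁻¹ᵁ V).ι ''ᵁ W.unop) => (pr φ (image_preimage_le (qLoc_w h hle) W.unop)
          (rs Q (image_le f' _) t) z : Γ(N', W₁ h hle W.unop)))
        (pr_add_right φ (image_preimage_le (qLoc_w h hle) W.unop) _))
     naturality := fun W U i => by
       ext z
       refine Eq.symm ((pr_res φ (image_preimage_le (qLoc_w h hle) W.unop)
         (image_preimage_le (qLoc_w h hle) U.unop)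
         (Scheme.Hom.image_mono _ ((qLoc h hle).preimage_mono i.unop.le))
         (Scheme.Hom.image_mono _ i.unop.le) _ z).trans ?_)
       rw [rs_rs]
       rfl }⟩

theorem prSh_app (φ : (Φ g' Q).obj N ⟶ N') (t : Γ(Q, f' ⁻¹ᵁ V')) (W : (f ⁻¹ᵁ V).toScheme.Opens)
    (z : Γ(N, (f ⁻¹ᵁ V).ι ''ᵁ W)) :
    (prSh h hle φ t).hom.app (op W) z =
      pr φ (image_preimage_le (qLoc_w h hle) W) (rs Q (image_le f' _) t) z := rfl

theorem prSh_add (φ : (Φ g' Q).obj N ⟶ N') (t t' : Γ(Q, f' ⁻¹ᵁ V')) :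
    prSh h hle φ (t + t') = prSh h hle φ t + prSh h hle φ t' := by
  refine ObjectProperty.hom_ext _ ?_
  ext W z
  show pr φ _ (rs Q _ (t + t')) z = pr φ _ (rs Q _ t) z + pr φ _ (rs Q _ t') z
  rw [map_add, pr_add_left]

theorem prSh_natural (φ : (Φ g' Q).obj N ⟶ N') {M : X.Modules} {M' : X'.Modules}
    (φ₂ : (Φ g' Q).obj M ⟶ M') (a : N ⟶ M) (a' : N' ⟶ M') (hc : φ ≫ a' = (Φ g' Q).map a ≫ φ₂)
    (t : Γ(Q, f' ⁻¹ᵁ V')) :
    prSh h hle φ t ≫ (CohTop.push (qLoc h hle).base).map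
        ((shF _).map ((Scheme.Modules.restrictFunctor (f' ⁻¹ᵁ V').ι).map a')) =
      (shF _).map ((Scheme.Modules.restrictFunctor (f ⁻¹ᵁ V).ι).map a) ≫ prSh h hle φ₂ t := by
  refine ObjectProperty.hom_ext _ ?_
  ext W z
  exact pr_natural φ _ φ₂ a a' hc _ z

end prSh

variable {G : S'.Modules} {R : MRes X} {R' : MRes X'}
  (D : GData g' ((Scheme.Modules.pullback f').obj G) R R') (hV : IsAffineOpen V) (hV' : IsAffineOpen V')

/-- The scalars of the base on an open of the chart. -/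
theorem smul_sec (N : X.Modules) (W : (f ⁻¹ᵁ V).toScheme.Opens) (a : Γ(S, V))
    (z : Γ(N, (f ⁻¹ᵁ V).ι ''ᵁ W)) :
    letI := overV f hV
    (show Γ(N, (f ⁻¹ᵁ V).ι ''ᵁ W) from
      LeadFF.scal (A := Γ(S, V)) ((f ⁻¹ᵁ V).toScheme ↘ Spec (CommRingCat.of Γ(S, V))) W a •
        (show Γ(N.restrict (f ⁻¹ᵁ V).ι, W) from z)) =
      f.appLE V ((f ⁻¹ᵁ V).ι ''ᵁ W) (image_le f W) a • z := by
  letI := overV f hV
  show (((f ⁻¹ᵁ V).ι.appIso W).inv (LeadFF.scal (A := Γ(S, V)) (f.resLE V (f ⁻¹ᵁ V) le_rfl ≫ hV.isoSpec.hom) W a)) • z = _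
  rw [Scheme.Opens.ι_appIso]
  exact congrArg (· • z) (scal_resLE f hV le_rfl W (image_le f W) a)

/-- The morphism of resolutions given by a section of `G`. -/
def homRes (hepi : ∀ n, Epi ((CohTop.push (qLoc h hle).base).map ((R'.restrict (f' ⁻¹ᵁ V').ι).toF.p n)))
    (m : Γ(G, V')) :
    FRes.Hom (R.restrict (f ⁻¹ᵁ V).ι).toF ((R'.restrict (f' ⁻¹ᵁ V').ι).toF.push (qLoc h hle).base hepi) where
  f n := prSh h hle (D.α n) (OmegaSh.pullSect f' G V' m)
  g n := prSh h hle (D.β n) (OmegaSh.pullSect f' G V' m)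
  comm₁ n := prSh_natural h hle (D.α n) (D.β n) (R.i n) (R'.i n) (D.comm₁ n) _
  comm₂ n := prSh_natural h hle (D.β n) (D.α (n + 1)) (R.p n) (R'.p n) (D.comm₂ n) _

/-- The pairing in degree zero. -/
def μ₀ : Γ(G, V') →+ (sh ((R.restrict (f ⁻¹ᵁ V).ι).Z 0) ⟶
    (CohTop.push (qLoc h hle).base).obj (sh ((R'.restrict (f' ⁻¹ᵁ V').ι).Z 0))) :=
  AddMonoidHom.mk' (fun m => prSh h hle (D.α 0) (OmegaSh.pullSect f' G V' m)) fun m m' => by
    rw [map_add (OmegaSh.pullSect f' G V').hom]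
    exact prSh_add h hle (D.α 0) _ _

include h in
theorem appLE_square (W₀ : X.Opens) (W : X'.Opens) (h₀ : W₀ ≤ f ⁻¹ᵁ V) (hW : W ≤ g' ⁻¹ᵁ W₀)
    (hW' : W ≤ f' ⁻¹ᵁ V') (a : Γ(S, V)) :
    g'.appLE W₀ W hW (f.appLE V W₀ h₀ a) = f'.appLE V' W hW' (g.appLE V V' hle a) := by
  rw [← CommRingCat.comp_apply, ← CommRingCat.comp_apply, Scheme.Hom.appLE_comp_appLE,
    Scheme.Hom.appLE_comp_appLE]
  simp only [h.w]

theorem μ₀_smul :
    letI := overV f hV
    letI := Module.compHom Γ(G, V') (g.appLE V V' hle).hom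
    ∀ (a : Γ(S, V)) (m : Γ(G, V')), μ₀ h hle D (a • m) =
      LeadFBC.ρF Γ(S, V) ((R.restrict (f ⁻¹ᵁ V).ι).Z 0) a ≫ μ₀ h hle D m := by
  letI := overV f hV
  letI := Module.compHom Γ(G, V') (g.appLE V V' hle).hom
  intro a m
  refine ObjectProperty.hom_ext _ ?_
  ext W z
  let z₀ : Γ(R.Z 0, (f ⁻¹ᵁ V).ι ''ᵁ W.unop) := z
  have hW := image_preimage_le (qLoc_w h hle) W.unop
  have hW' : W₁ h hle W.unop ≤ f' ⁻¹ᵁ V' := image_le f' _
  show pr (D.α 0) hW (rs _ hW' (OmegaSh.pullSect f' G V' (g.appLE V V' hle a • m))) z₀ =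
    pr (D.α 0) hW (rs _ hW' (OmegaSh.pullSect f' G V' m))
      (show Γ(R.Z 0, (f ⁻¹ᵁ V).ι ''ᵁ W.unop) from
        LeadFF.scal (A := Γ(S, V)) ((f ⁻¹ᵁ V).toScheme ↘ Spec (CommRingCat.of Γ(S, V))) W.unop a •
          (show Γ((R.Z 0).restrict (f ⁻¹ᵁ V).ι, W.unop) from z₀))
  rw [smul_sec hV (R.Z 0) W.unop a z₀, pr_smul_right, appLE_square h hle _ _ (image_le f _) hW hW',
    ← pr_smul_left, OmegaSh.pullSect_smul]
  refine congrArg (fun t => pr (D.α 0) hW t z₀) ((Scheme.Modules.map_smul _ (homOfLE hW') _ _).trans ?_)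
  rfl

variable (hF : Coh.IsQCoh (R.Z 0)) (hG : Coh.IsQCoh G) [IsIso (D.α 0)]

include hV' hF hG in
theorem bijective_pairSec {U : (f ⁻¹ᵁ V).toScheme.Opens} (hU : IsAffineOpen U) :
    letI := overV f hV
    letI := Module.compHom Γ(G, V') (g.appLE V V' hle).hom
    haveI : ((R.restrict (f ⁻¹ᵁ V).ι).Z 0).IsQuasicoherent :=
      @Scheme.Modules.isQuasicoherent_restrictFunctor _ _ (f ⁻¹ᵁ V).ι _ (R.Z 0) hF
    Function.Bijective (LeadFBC.pairSec Γ(S, V) ((R.restrict (f ⁻¹ᵁ V).ι).Z 0)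
      (ModuleCat.of Γ(S, V) Γ(G, V')) (μ₀ h hle D) (μ₀_smul h hle D hV) U) := by
  letI := overV f hV
  letI := overV f' hV'
  letI := (g.appLE V V' hle).hom.toAlgebra
  haveI : ((R.restrict (f ⁻¹ᵁ V).ι).Z 0).IsQuasicoherent :=
    @Scheme.Modules.isQuasicoherent_restrictFunctor _ _ (f ⁻¹ᵁ V).ι _ (R.Z 0) hF
  haveI := LeadFF.isAffineHom_fst (isPullback_qLoc h hle hV hV')
  let Q := (Scheme.Modules.pullback f').obj G
  let N := (Scheme.Modules.pullback g').obj (R.Z 0)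
  haveI : Q.IsQuasicoherent := H29Fitt.isQCoh_pullback f' G hG
  haveI : N.IsQuasicoherent := H29Fitt.isQCoh_pullback g' _ hF
  have hWA : IsAffineOpen (W₁ h hle U) := (hU.preimage (qLoc h hle)).image_of_isOpenImmersion _
  let W := W₁ h hle U
  let W₀ := (f ⁻¹ᵁ V).ι ''ᵁ U
  have hW : W ≤ g' ⁻¹ᵁ W₀ := image_preimage_le (qLoc_w h hle) U
  have hW' : W ≤ f' ⁻¹ᵁ V' := image_le f' _
  letI : Algebra Γ(S', V') Γ(X', W) := (f'.appLE V' W hW').hom.toAlgebra
  letI : Module Γ(S, V) Γ(G, V') := Module.compHom Γ(G, V') (g.appLE V V' hle).hom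
  haveI : IsScalarTower Γ(S, V) Γ(S', V') Γ(G, V') := .of_algebraMap_smul fun _ _ => rfl
  letI : Module Γ(S', V') Γ(N, W) := Module.compHom _ (f'.appLE V' W hW').hom
  haveI : IsScalarTower Γ(S', V') Γ(X', W) Γ(N, W) := .of_algebraMap_smul fun _ _ => rfl
  letI : Module Γ(S, V) Γ(N, W) := Module.compHom _ (g.appLE V V' hle).hom
  haveI : IsScalarTower Γ(S, V) Γ(S', V') Γ(N, W) := .of_algebraMap_smul fun _ _ => rfl
  letI : Module Γ(S', V') Γ(Q, W) := Module.compHom _ (f'.appLE V' W hW').hom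
  haveI : IsScalarTower Γ(S', V') Γ(X', W) Γ(Q, W) := .of_algebraMap_smul fun _ _ => rfl
  let F₀ := LeadBC.sec Γ(S, V) ((R.restrict (f ⁻¹ᵁ V).ι).Z 0) U
  let ℓ : F₀ →ₗ[Γ(S, V)] Γ(N, W) :=
    { toFun := fun z => pullLin g' (R.Z 0) hW (show Γ(R.Z 0, W₀) from z)
      map_add' := fun a b => map_add (pullLin g' (R.Z 0) hW) (show Γ(R.Z 0, W₀) from a) b
      map_smul' := fun a z => by
        let z₀ : Γ(R.Z 0, W₀) := z
        show pullLin g' (R.Z 0) hW (show Γ(R.Z 0, W₀) from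
            LeadFF.scal (A := Γ(S, V)) ((f ⁻¹ᵁ V).toScheme ↘ Spec (CommRingCat.of Γ(S, V))) U a •
              (show Γ((R.Z 0).restrict (f ⁻¹ᵁ V).ι, U) from z₀)) =
          f'.appLE V' W hW' (g.appLE V V' hle a) • pullLin g' (R.Z 0) hW z₀
        rw [smul_sec hV (R.Z 0) U a z₀, ← appLE_square h hle W₀ W (image_le f U) hW hW' a]
        letI := Module.compHom Γ((Scheme.Modules.pullback g').obj (R.Z 0), W) (g'.appLE W₀ W hW).hom
        exact map_smul (pullLin g' (R.Z 0) hW) _ _ }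
  let L := LinearMap.liftBaseChange Γ(S', V') ℓ
  have hL : Function.Bijective L := by
    have hb := bijective_loc h hle hF (Iso.refl N)
      ((Scheme.Modules.pullbackPushforwardAdjunction g').unit.app (R.Z 0))
      ((congrArg (_ ≫ ·) ((Scheme.Modules.pushforward g').map_id _)).trans (Category.comp_id _)).symm
      hV hV' hU
    refine (congrArg Function.Bijective (funext fun x => ?_)).mp hb
    induction x using TensorProduct.induction_on with
    | zero => exact (map_zero _).trans (map_zero L).symm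
    | add a b ha hb => exact (map_add _ a b).trans ((congrArg₂ (· + ·) ha hb).trans (map_add L a b).symm)
    | tmul b z =>
      refine (bcMap_tmul (hsc := qLoc_sc h hle hV hV') _ U b
        (show Γ((R.Z 0).restrict (f ⁻¹ᵁ V).ι, U) from z)).trans ?_
      refine Eq.trans ?_ (LinearMap.liftBaseChange_tmul Γ(S', V') ℓ b z).symm
      refine Eq.trans ?_ (smul_sec (f := f') hV' N ((qLoc h hle) ⁻¹ᵁ U) b (ℓ z))
      refine congrArg (fun x : Γ(N.restrict (f' ⁻¹ᵁ V').ι, (qLoc h hle) ⁻¹ᵁ U) =>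
        sc (A := Γ(S', V')) ((qLoc h hle) ⁻¹ᵁ U) b • x) ?_
      exact (locMap_app (qLoc_w h hle) _ U z).trans rfl
  let eL : Γ(S', V') ⊗[Γ(S, V)] F₀ ≃ₗ[Γ(S', V')] Γ(N, W) := LinearEquiv.ofBijective L hL
  have hbc : IsBaseChange Γ(X', W) (pullLin f' G hW') := isBaseChange_pullLin f' G hW' hG hV' hWA
  let e₁ : Γ(G, V') ⊗[Γ(S, V)] F₀ ≃+ Γ(N, W) ⊗[Γ(S', V')] Γ(G, V') :=
    (AlgebraTensorModule.cancelBaseChange Γ(S, V) Γ(S', V') Γ(S', V') Γ(G, V') F₀).symm.toAddEquiv.trans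
      ((TensorProduct.congr (LinearEquiv.refl Γ(S', V') Γ(G, V')) eL).toAddEquiv.trans
        (TensorProduct.comm Γ(S', V') Γ(G, V') Γ(N, W)).toAddEquiv)
  let e₂ : Γ(N, W) ⊗[Γ(S', V')] Γ(G, V') ≃+ Γ(Q, W) ⊗[Γ(X', W)] Γ(N, W) :=
    (AlgebraTensorModule.cancelBaseChange Γ(S', V') Γ(X', W) Γ(X', W) Γ(N, W) Γ(G, V')).symm.toAddEquiv.trans
      ((TensorProduct.congr (LinearEquiv.refl Γ(X', W) Γ(N, W)) hbc.equiv).toAddEquiv.trans
        (TensorProduct.comm Γ(X', W) Γ(N, W) Γ(Q, W)).toAddEquiv)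
  have hα : Function.Bijective ((D.α 0).app W) := by
    haveI : IsIso (D.α 0).mapPresheaf :=
      inferInstanceAs (IsIso ((Scheme.Modules.toPresheaf _).map (D.α 0)))
    exact ConcreteCategory.bijective_of_isIso ((D.α 0).mapPresheaf.app (op W))
  refine (congrArg Function.Bijective (funext fun x => ?_)).mp
    (hα.comp ((LeadBC.bijective_mulSect Q N W hWA).comp (e₂.bijective.comp e₁.bijective)))
  induction x using TensorProduct.induction_on with
  | zero => simp only [Function.comp_apply, map_zero]; exact map_zero ((D.α 0).app W).hom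
  | add a b ha hb =>
    simp only [Function.comp_apply, map_add] at ha hb ⊢
    exact (map_add ((D.α 0).app W).hom _ _).trans (congrArg₂ (· + ·) ha hb)
  | tmul m z =>
    show (D.α 0).app W (LeadBC.mulSect Q N W ((hbc.equiv ((1 : Γ(X', W)) ⊗ₜ m)) ⊗ₜ L ((1 : Γ(S', V')) ⊗ₜ z))) = _
    rw [LeadBC.mulSect_tmul, IsBaseChange.equiv_tmul, one_smul, LinearMap.liftBaseChange_tmul, one_smul]
    rfl

end Groth.Agent.LeadTBC
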