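import Groth.Agent.LeadTBC.Chart
import Groth.Agent.H10Coh.SheafHom.Adj
import Groth.Agent.H10Coh.HigherDirect2

/-!
# Base change of higher direct images with flat coefficients
-/

set_option autoImplicit false
set_option linter.style.haveILetI false
set_option linter.unusedSectionVars false

noncomputable section

universe u

open CategoryTheory CategoryTheory.Limits AlgebraicGeometry Opposite TopologicalSpace TensorProduct
open Groth.Agent.H10Coh Groth.Agent.H10Coh.FBC Groth.Agent.H11Ample Groth.Agent.H8Props.PullSections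

namespace Groth.Agent.LeadTBC

attribute [local instance 10000] hasSheafifyAb hasWeakSheafifyAb hasExtAb enoughInjAb

variable {X S X' S' : Scheme.{u}} {f : X ⟶ S} {g : S' ⟶ S} {g' : X' ⟶ X} {f' : X' ⟶ S'}
  (h : IsPullback g' f' f g) {G : S'.Modules}

/-- `ψZ` is natural. -/
theorem ψZ_natural {N M : X.Modules} {N' M' : X'.Modules}
    (φ : (Φ g' ((Scheme.Modules.pullback f').obj G)).obj N ⟶ N')
    (φ₂ : (Φ g' ((Scheme.Modules.pullback f').obj G)).obj M ⟶ M') (a : N ⟶ M) (a' : N' ⟶ M')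
    (hc : φ ≫ a' = (Φ g' ((Scheme.Modules.pullback f').obj G)).map a ≫ φ₂) :
    (Φ g G).map ((Scheme.Modules.pushforward f).map a) ≫ ψZ h φ₂ =
      ψZ h φ ≫ (Scheme.Modules.pushforward f').map a' := by
  refine H10Coh.SheafHom.tensor_ext fun U m y => ?_
  show (ψZ h φ₂).app U (((Φ g G).map ((Scheme.Modules.pushforward f).map a)).app U (tm m y)) =
    ((Scheme.Modules.pushforward f').map a').app U ((ψZ h φ).app U (tm m y))
  rw [Φ_map_tm, ψZ_tm, ψZ_tm]
  refine Eq.trans ?_ (congr($(congrArg (fun k => Scheme.Modules.Hom.app k (f' ⁻¹ᵁ U)) hc)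
    (tm (OmegaSh.pullSect f' G U m) ((cBC h N).app U y)))).symm
  refine congrArg (φ₂.app (f' ⁻¹ᵁ U)) (Eq.trans (congrArg (tm _) ?_) (Φ_map_tm g' _ a _ _ _).symm)
  have hn : (Scheme.Modules.pullback g).map ((Scheme.Modules.pushforward f).map a) ≫ cBC h M =
      cBC h N ≫ (Scheme.Modules.pushforward f').map ((Scheme.Modules.pullback g').map a) := by
    rw [cBC, cBC, ← Adjunction.homEquiv_naturality_left_symm, ← Adjunction.homEquiv_naturality_right_symm]
    refine congrArg _ ?_
    simp only [τPush, Category.assoc]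
    rw [← Functor.map_comp_assoc,
      show a ≫ (Scheme.Modules.pullbackPushforwardAdjunction g').unit.app M =
        (Scheme.Modules.pullbackPushforwardAdjunction g').unit.app N ≫
          (Scheme.Modules.pushforward g').map ((Scheme.Modules.pullback g').map a) from
        (Scheme.Modules.pullbackPushforwardAdjunction g').unit.naturality a, Functor.map_comp_assoc]
    exact congrArg (_ ≫ ·) ((Scheme.Modules.pushforwardComp g' f ≪≫ Scheme.Modules.pushforwardCongr h.w ≪≫
      (Scheme.Modules.pushforwardComp f' g).symm).hom.naturality ((Scheme.Modules.pullback g').map a))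
  exact congr($(congrArg (fun k => Scheme.Modules.Hom.app k U) hn) y)

variable {R : MRes X} {R' : MRes X'} (D : GData g' ((Scheme.Modules.pullback f').obj G) R R')
  (hF : Coh.IsQCoh (R.Z 0)) (hG : Coh.IsQCoh G) [IsIso (D.α 0)]

include h D hF hG in
/-- The criterion: a comparison compatible with the pairing of cocycles is an isomorphism. -/
theorem isIso_of_cocycles [QuasiCompact f] [QuasiSeparated f] (hGf : FlatMod.IsFlatOver g G) (n : ℕ)
    {N : S.Modules} {N' : S'.Modules} (hN : Coh.IsQCoh N) (π : (Scheme.Modules.pushforward f).obj (R.Z n) ⟶ N)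
    (π' : (Scheme.Modules.pushforward f').obj (R'.Z n) ⟶ N') (ψ : (Φ g G).obj N ⟶ N')
    (hψ : (Φ g G).map π ≫ ψ = ψZ h (D.α n) ≫ π')
    (hπ : ∀ V : S.Opens, IsAffineOpen V → Function.Surjective (π.app V))
    (hπ0 : ∀ V : S.Opens, IsAffineOpen V → ∀ z : Γ(R.Z n, f ⁻¹ᵁ V), π.app V z = 0 ↔ Bd R n z)
    (hπ' : ∀ V' : S'.Opens, IsAffineOpen V' → Function.Surjective (π'.app V'))
    (hπ'0 : ∀ V' : S'.Opens, IsAffineOpen V' → ∀ z : Γ(R'.Z n, f' ⁻¹ᵁ V'), π'.app V' z = 0 ↔ Bd R' n z) :
    IsIso ψ := by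
  refine isIso_of_bijective_affine_le g _ fun V V' hV hV' hle => ?_
  letI := (g.appLE V V' hle).hom.toAlgebra
  letI : Module Γ(S, V) Γ(G, V') := Module.compHom Γ(G, V') (g.appLE V V' hle).hom
  haveI : IsScalarTower Γ(S, V) Γ(S', V') Γ(G, V') := .of_algebraMap_smul fun _ _ => rfl
  let K := (Scheme.Modules.pullback g).obj N
  haveI : K.IsQuasicoherent := H29Fitt.isQCoh_pullback g N hN
  haveI : G.IsQuasicoherent := hG
  letI : Module Γ(S, V) Γ(K, V') := Module.compHom Γ(K, V') (g.appLE V V' hle).hom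
  haveI : IsScalarTower Γ(S, V) Γ(S', V') Γ(K, V') := .of_algebraMap_smul fun _ _ => rfl
  have hbc : IsBaseChange Γ(S', V') (pullLin g N hle) := isBaseChange_pullLin g N hle hN hV hV'
  let e : Γ(G, V') ⊗[Γ(S, V)] Γ(N, V) ≃+ Γ(G, V') ⊗[Γ(S', V')] Γ(K, V') :=
    (AlgebraTensorModule.cancelBaseChange Γ(S, V) Γ(S', V') Γ(S', V') Γ(G, V') Γ(N, V)).symm.toAddEquiv.trans
      (TensorProduct.congr (LinearEquiv.refl Γ(S', V') Γ(G, V')) hbc.equiv).toAddEquiv
  let L : Γ(G, V') ⊗[Γ(S, V)] Γ(N, V) →+ Γ(N', V') :=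
    ((ψ.app V').hom.comp (LeadBC.mulSect G K V').toAddMonoidHom).comp e.toAddMonoidHom
  have hL : Function.Bijective L := by
    refine bijective_of_cocycles h hle D hV hV' hF hG hGf n (π.app V).hom (hπ V hV)
      (fun a z => π.app_smul a z) (hπ0 V hV) (π'.app V').hom (hπ' V' hV') (hπ'0 V' hV') L fun m z => ?_
    show ψ.app V' (LeadBC.mulSect G K V' (m ⊗ₜ hbc.equiv ((1 : Γ(S', V')) ⊗ₜ π.app V z))) = _
    rw [IsBaseChange.equiv_tmul, one_smul, LeadBC.mulSect_tmul]
    have hp : pullLin g N hle (π.app V z) = ((Scheme.Modules.pullback g).map π).app V'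
        (pullLin g ((Scheme.Modules.pushforward f).obj (R.Z n)) hle z) := by
      show rs _ hle (OmegaSh.pullSect g N V (π.app V z)) =
        ((Scheme.Modules.pullback g).map π).app V' (rs _ hle (OmegaSh.pullSect g _ V z))
      rw [app_rs, ← H17.PullSect.pullSect_natural]
    rw [hp]
    refine (congrArg (ψ.app V') (Φ_map_tm g G π V' m _).symm).trans ?_
    refine (congr($(congrArg (fun k => Scheme.Modules.Hom.app k V') hψ)
      (tm m (pullLin g ((Scheme.Modules.pushforward f).obj (R.Z n)) hle z)))).trans ?_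
    exact congrArg (π'.app V') (ψZ_tm_pullLin h (D.α n) hle m z)
  exact (Function.Bijective.of_comp_iff (ψ.app V')
    ((LeadBC.bijective_mulSect G K V' hV').comp e.bijective)).1 hL

include h D hF hG in
/-- The case of direct images. -/
theorem isIso_ψZ_zero [QuasiCompact f] [QuasiSeparated f] (hGf : FlatMod.IsFlatOver g G) :
    IsIso (ψZ h (D.α 0)) := by
  haveI : (R.Z 0).IsQuasicoherent := hF
  exact isIso_of_cocycles h D hF hG hGf 0 (isQuasicoherent_pushforward f (R.Z 0)) (𝟙 _) (𝟙 _) _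
    (by rw [CategoryTheory.Functor.map_id]; exact (Category.id_comp _).trans (Category.comp_id _).symm)
    (fun _ _ z => ⟨z, rfl⟩) (fun _ _ _ => Iff.rfl) (fun _ _ z => ⟨z, rfl⟩) (fun _ _ _ => Iff.rfl)

include h D hF hG in
/-- The case of higher direct images. -/
theorem nonempty_iso_hdir [QuasiCompact f] [QuasiSeparated f] [QuasiCompact f'] [QuasiSeparated f']
    (hGf : FlatMod.IsFlatOver g G) (n : ℕ) : Nonempty ((Φ g G).obj (hdir f R n) ≅ hdir f' R' n) := by
  haveI : (R.Z 0).IsQuasicoherent := hF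
  haveI : (R'.Z 0).IsQuasicoherent := isQuasicoherent_Z₀ D hF hG
  let a := (Scheme.Modules.pushforward f).map (R.p n)
  let a' := (Scheme.Modules.pushforward f').map (R'.p n)
  have hw : (Φ g G).map a ≫ ψZ h (D.α (n + 1)) ≫ cokernel.π a' = 0 := by
    rw [← Category.assoc, ψZ_natural h (D.β n) (D.α (n + 1)) (R.p n) (R'.p n) (D.comm₂ n), Category.assoc,
      cokernel.condition, comp_zero]
  let ψ := (PreservesCokernel.iso (Φ g G) a).hom ≫ cokernel.desc _ (ψZ h (D.α (n + 1)) ≫ cokernel.π a') hw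
  haveI : IsIso ψ := isIso_of_cocycles h D hF hG hGf (n + 1) (isQuasicoherent_hdir f R n) (cokernel.π a)
    (cokernel.π a') ψ
    (by rw [← Category.assoc, PreservesCokernel.π_iso_hom, cokernel.π_desc])
    (fun V hV => piA_surjective f R n hV)
    (fun V hV z => ⟨Bd_of_piA_eq_zero f R n hV z, piA_eq_zero_of_Bd f R n V z⟩)
    (fun V hV => piA_surjective f' R' n hV)
    (fun V hV z => ⟨Bd_of_piA_eq_zero f' R' n hV z, piA_eq_zero_of_Bd f' R' n V z⟩)
  exact ⟨asIso ψ⟩

end Groth.Agent.LeadTBC
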