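import Groth.Agent.LeadTBC.Phi
import Groth.Agent.H10Coh.FlatBC.Transpose
import Groth.Agent.H10Coh.FlatBC.FlatSheaf
import Groth.Agent.H11Ample.Restrict
import Groth.Agent.H11Tilde.ProjUP
import Groth.Agent.LeadBC.TensorSect
import Groth.Prelude.Def_KoszTw

/-!
# Pairing sections of `G` with direct images

A morphism `Q ⊗ g'^* N ⟶ N'`, for `Q = f'^* G`, pairs sections, and gives `G ⊗ g^* f_* N ⟶ f'_* N'`.
-/

set_option autoImplicit false
set_option linter.style.haveILetI false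

noncomputable section

universe u

open CategoryTheory CategoryTheory.Limits AlgebraicGeometry Opposite TopologicalSpace TensorProduct
open Groth.Agent.H10Coh Groth.Agent.H10Coh.FBC Groth.Agent.H11Ample Groth.Agent.H8Props.PullSections

namespace Groth.Agent.LeadTBC

attribute [local instance 10000] hasSheafifyAb hasWeakSheafifyAb hasExtAb enoughInjAb

theorem Φ_map_tm {X X' : Scheme.{u}} (g' : X' ⟶ X) (Q : X'.Modules) {N M : X.Modules} (a : N ⟶ M)
    (W' : X'.Opens) (t : Γ(Q, W')) (y : Γ((Scheme.Modules.pullback g').obj N, W')) :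
    ((Φ g' Q).map a).app W' (tm t y) = tm t (((Scheme.Modules.pullback g').map a).app W' y) := by
  show (((DCoh.tensorBi (X := X')).obj Q).map ((Scheme.Modules.pullback g').map a)).app W' (tm t y) = _
  rw [KoszTw.tensorBi_obj_map]
  exact LeadBC.tm_natural Q _ _ W' t y

section pr

variable {X X' : Scheme.{u}} {g' : X' ⟶ X} {Q : X'.Modules} {N : X.Modules} {N' : X'.Modules}
  (φ : (Φ g' Q).obj N ⟶ N') {W : X.Opens} {W' : X'.Opens} (hW : W' ≤ g' ⁻¹ᵁ W)

/-- The pairing of sections. -/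
def pr (t : Γ(Q, W')) (z : Γ(N, W)) : Γ(N', W') :=
  φ.app W' (tm t (pullLin g' N hW z))

theorem pr_add_left (t t' : Γ(Q, W')) (z : Γ(N, W)) : pr φ hW (t + t') z = pr φ hW t z + pr φ hW t' z := by
  rw [pr, tm_add_left]
  exact map_add (φ.app W').hom _ _

theorem pr_smul_left (r : Γ(X', W')) (t : Γ(Q, W')) (z : Γ(N, W)) : pr φ hW (r • t) z = r • pr φ hW t z := by
  rw [pr, tm_smul_left]
  exact φ.app_smul _ _

theorem pr_add_right (t : Γ(Q, W')) (z z' : Γ(N, W)) : pr φ hW t (z + z') = pr φ hW t z + pr φ hW t z' := by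
  rw [pr, map_add, tm_add_right]
  exact map_add (φ.app W').hom _ _

theorem pr_smul_right (r : Γ(X, W)) (t : Γ(Q, W')) (z : Γ(N, W)) :
    pr φ hW t (r • z) = g'.appLE W W' hW r • pr φ hW t z := by
  letI := Module.compHom Γ((Scheme.Modules.pullback g').obj N, W') (g'.appLE W W' hW).hom
  rw [pr, map_smul]
  refine (congrArg (φ.app W') (tm_smul_right (g'.appLE W W' hW r) t _)).trans ?_
  exact φ.app_smul _ _

theorem pr_res {V : X.Opens} {V' : X'.Opens} (hV : V' ≤ g' ⁻¹ᵁ V) (h' : V' ≤ W') (k : V ≤ W)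
    (t : Γ(Q, W')) (z : Γ(N, W)) : rs N' h' (pr φ hW t z) = pr φ hV (rs Q h' t) (rs N k z) := by
  rw [pr, ← app_rs φ h']
  refine congrArg (φ.app V') ((tm_res h' t _).trans (congrArg (tm _) ?_))
  show rs _ h' (rs _ hW (OmegaSh.pullSect g' N W z)) = rs _ hV (OmegaSh.pullSect g' N V (rs N k z))
  rw [show OmegaSh.pullSect g' N V (rs N k z) =
    rs _ (g'.preimage_mono k) (OmegaSh.pullSect g' N W z) from H11Tilde.pullSect_res g' N k z, rs_rs, rs_rs]

theorem pr_natural {M : X.Modules} {M' : X'.Modules} (φ₂ : (Φ g' Q).obj M ⟶ M') (a : N ⟶ M) (a' : N' ⟶ M')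
    (hc : φ ≫ a' = (Φ g' Q).map a ≫ φ₂) (t : Γ(Q, W')) (z : Γ(N, W)) :
    a'.app W' (pr φ hW t z) = pr φ₂ hW t (a.app W z) := by
  refine (congr($(congrArg (fun k => Scheme.Modules.Hom.app k W') hc) (tm t (pullLin g' N hW z)))).trans ?_
  refine congrArg (φ₂.app W') ((Φ_map_tm g' Q a W' t _).trans (congrArg (tm t) ?_))
  show ((Scheme.Modules.pullback g').map a).app W' (rs _ hW (OmegaSh.pullSect g' N W z)) =
    rs _ hW (OmegaSh.pullSect g' M W (a.app W z))
  rw [app_rs, ← H17.PullSect.pullSect_natural]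

end pr

section sheaf

variable {X S X' S' : Scheme.{u}} {f : X ⟶ S} {g : S' ⟶ S} {g' : X' ⟶ X} {f' : X' ⟶ S'}
  (h : IsPullback g' f' f g) (G : S'.Modules)

/-- The base change map in degree zero. -/
def cBC (N : X.Modules) : (Scheme.Modules.pullback g).obj ((Scheme.Modules.pushforward f).obj N) ⟶
    (Scheme.Modules.pushforward f').obj ((Scheme.Modules.pullback g').obj N) :=
  ((Scheme.Modules.pullbackPushforwardAdjunction g).homEquiv _ _).symm
    (τPush h ((Scheme.Modules.pullbackPushforwardAdjunction g').unit.app N))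

theorem cBC_pullLin (N : X.Modules) {V : S.Opens} {V' : S'.Opens} (hle : V' ≤ g ⁻¹ᵁ V)
    (s : Γ((Scheme.Modules.pushforward f).obj N, V)) :
    (cBC h N).app V' (pullLin g ((Scheme.Modules.pushforward f).obj N) hle s) =
      pullLin g' N (preimage_le_preimage h hle) s := by
  have h1 := H06Mod.homEquiv_app g _ (cBC h N) V s
  rw [cBC, Equiv.apply_symm_apply, τPush_app] at h1
  refine (app_rs (cBC h N) hle (OmegaSh.pullSect g _ V s)).trans ?_
  refine (congrArg (rs _ hle) h1.symm).trans ?_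
  exact rs_rs ((Scheme.Modules.pullback g').obj N) (preimage_swap h V).le ((Opens.map f'.base).monotone hle)
    (OmegaSh.pullSect g' N (f ⁻¹ᵁ V) s)

variable {G} {N : X.Modules} {N' : X'.Modules} (φ : (Φ g' ((Scheme.Modules.pullback f').obj G)).obj N ⟶ N')

/-- The bilinear map behind `ψZ`. -/
def ψPair : H11Tilde.Pairing G ((Scheme.Modules.pullback g).obj ((Scheme.Modules.pushforward f).obj N))
    ((Scheme.Modules.pushforward f').obj N') where
  toFun U m y := φ.app (f' ⁻¹ᵁ U) (tm (OmegaSh.pullSect f' G U m) ((cBC h N).app U y))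
  add_left U m m' y := by
    rw [map_add (OmegaSh.pullSect f' G U).hom, tm_add_left]
    exact map_add (φ.app (f' ⁻¹ᵁ U)).hom _ _
  smul_left U r m y := by
    rw [OmegaSh.pullSect_smul, tm_smul_left]
    exact φ.app_smul _ _
  add_right U m y y' := by
    rw [map_add ((cBC h N).app U).hom]
    refine (congrArg (φ.app (f' ⁻¹ᵁ U)) (tm_add_right _ _ _)).trans ?_
    exact map_add (φ.app (f' ⁻¹ᵁ U)).hom _ _
  smul_right U r m y := by
    rw [(cBC h N).app_smul]
    refine (congrArg (φ.app (f' ⁻¹ᵁ U)) (tm_smul_right (f'.app U r) _ _)).trans ?_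
    exact φ.app_smul _ _
  res U V k m y := by
    show rs N' (f'.preimage_mono k) _ = _
    rw [← app_rs φ]
    refine congrArg (φ.app (f' ⁻¹ᵁ V)) ((tm_res (f'.preimage_mono k) _ _).trans ?_)
    refine congrArg₂ tm (H11Tilde.pullSect_res f' G k m).symm ?_
    exact (app_rs (cBC h N) k y).symm

/-- `G ⊗ g^* f_* N ⟶ f'_* N'`. -/
def ψZ : (Φ g G).obj ((Scheme.Modules.pushforward f).obj N) ⟶ (Scheme.Modules.pushforward f').obj N' :=
  H11Tilde.tensorDesc (ψPair h φ)

theorem ψZ_tm (U : S'.Opens) (m : Γ(G, U))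
    (y : Γ((Scheme.Modules.pullback g).obj ((Scheme.Modules.pushforward f).obj N), U)) :
    (ψZ h φ).app U (tm m y) = φ.app (f' ⁻¹ᵁ U) (tm (OmegaSh.pullSect f' G U m) ((cBC h N).app U y)) :=
  tensorDesc_tm (ψPair h φ) m y

theorem ψZ_tm_pullLin {V : S.Opens} {V' : S'.Opens} (hle : V' ≤ g ⁻¹ᵁ V) (m : Γ(G, V'))
    (z : Γ(N, f ⁻¹ᵁ V)) :
    (ψZ h φ).app V' (tm m (pullLin g ((Scheme.Modules.pushforward f).obj N) hle z)) =
      pr φ (preimage_le_preimage h hle) (OmegaSh.pullSect f' G V' m) z := by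
  rw [ψZ_tm, cBC_pullLin]
  rfl

end sheaf

end Groth.Agent.LeadTBC
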