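import Groth.Agent.H10Coh.FlatBC.Main
import Groth.Agent.H16Derived.BaseChange.RelFlatPull
import Groth.Agent.H16Derived.KFlat.SheafTensor
import Groth.Agent.H17.KoszTwist.Stalk
import Groth.Agent.H10Coh.FibreLift.MonoEpi

/-!
# Tensoring an inverse image with a module flat over the base

For `g' : X' ⟶ X` and an `O_{X'}`-module `Q` flat over `X`, the functor `F ↦ Q ⊗ g'^* F` is exact, so
maps out of it extend along resolutions with injective targets.
-/

set_option autoImplicit false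
set_option linter.style.haveILetI false

noncomputable section

universe u

open CategoryTheory CategoryTheory.Limits AlgebraicGeometry Opposite TopologicalSpace TensorProduct
open Groth.Agent.H10Coh

namespace Groth.Agent.LeadTBC

open Groth.Agent.H06Mod Groth.Agent.H16Derived.KFlat.Stalk

variable {X X' : Scheme.{u}} (g' : X' ⟶ X) (Q : X'.Modules)

/-- `F ↦ Q ⊗ g'^* F`. -/
abbrev Φ : X.Modules ⥤ X'.Modules :=
  Scheme.Modules.pullback g' ⋙ (DCoh.tensorBi (X := X')).obj Q

section stalk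

attribute [local instance] stalkAlgebra

variable {g'}

theorem injective_stalk_Φ (hQ : FlatMod.IsFlatOver g' Q) {N M : X.Modules} (φ : N ⟶ M) [Mono φ] (x : X') :
    Function.Injective (stalkLin ((Φ g' Q).map φ) x) := by
  let A := X.presheaf.stalk (g'.base x)
  let B := X'.presheaf.stalk x
  letI : Module A (Q.presheaf.stalk x) := FlatMod.moduleStalkOver g' Q x
  haveI : IsScalarTower A B (Q.presheaf.stalk x) := .of_algebraMap_smul fun _ _ => rfl
  haveI : Module.Flat A (Q.presheaf.stalk x) := hQ x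
  have hφ : Function.Injective (stalkLin φ (g'.base x)) := H10Coh.FibreLift.injective_stalkLin_of_mono φ _
  let e : ∀ K : X.Modules, Q.presheaf.stalk x ⊗[A] K.presheaf.stalk (g'.base x) ≃ₗ[B]
      ((Φ g' Q).obj K).presheaf.stalk x := fun K =>
    (AlgebraTensorModule.cancelBaseChange A B B (Q.presheaf.stalk x) (K.presheaf.stalk (g'.base x))).symm ≪≫ₗ
      TensorProduct.congr (LinearEquiv.refl B _) (pullStalkEquiv g' K x) ≪≫ₗ
        stalkEquiv Q ((Scheme.Modules.pullback g').obj K) x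
  have h : ∀ t, stalkLin ((Φ g' Q).map φ) x (e N t) = e M ((stalkLin φ (g'.base x)).lTensor _ t) := fun t => by
    induction t using TensorProduct.induction_on with
    | zero => simp only [map_zero]
    | add a b ha hb => simp only [map_add, ha, hb]
    | tmul q n =>
      show stalkLin ((Φ g' Q).map φ) x (toStalk Q _ x (q ⊗ₜ pullStalkLin g' N x (1 ⊗ₜ n))) =
        toStalk Q _ x (q ⊗ₜ pullStalkLin g' M x (1 ⊗ₜ stalkLin φ (g'.base x) n))
      have h1 := toStalk_naturality (x := x) (𝟙 Q) ((Scheme.Modules.pullback g').map φ)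
        (q ⊗ₜ pullStalkLin g' N x (1 ⊗ₜ n))
      rw [CategoryTheory.Functor.map_id, NatTrans.id_app, Category.id_comp] at h1
      refine h1.trans ?_
      have hid : stalkLin (𝟙 Q) x q = q := congr($((DerSch.stalkFunctor X' x).map_id Q) q)
      rw [TensorProduct.map_tmul, hid, ← H16Derived.KFlat.Stalk.pullStalkLin_naturality]
      rfl
  intro a b hab
  obtain ⟨a, rfl⟩ := (e N).surjective a
  obtain ⟨b, rfl⟩ := (e N).surjective b
  rw [h, h] at hab
  rw [Module.Flat.lTensor_preserves_injective_linearMap _ hφ ((e M).injective hab)]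

theorem mono_Φ_map (hQ : FlatMod.IsFlatOver g' Q) {N M : X.Modules} (φ : N ⟶ M) [Mono φ] :
    Mono ((Φ g' Q).map φ) :=
  H17.KoszTwist.mono_of_stalk_injective _ fun x => injective_stalk_Φ Q hQ φ x

end stalk

instance preservesFiniteColimits_Φ : PreservesFiniteColimits (Φ g' Q) := by
  haveI := preservesColimitsOfSize_shrink.{0, u, 0, u} ((DCoh.tensorBi (X := X')).obj Q)
  haveI : PreservesColimitsOfSize.{0, 0} (Scheme.Modules.pullback g') :=
    (Scheme.Modules.pullbackPushforwardAdjunction g').leftAdjoint_preservesColimits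
  infer_instance

/-- A morphism of resolutions over `Q ⊗ g'^*`. -/
structure GData (R : MRes X) (R' : MRes X') where
  α : ∀ n, (Φ g' Q).obj (R.Z n) ⟶ R'.Z n
  β : ∀ n, (Φ g' Q).obj (R.I n) ⟶ R'.I n
  comm₁ : ∀ n, α n ≫ R'.i n = (Φ g' Q).map (R.i n) ≫ β n
  comm₂ : ∀ n, β n ≫ R'.p n = (Φ g' Q).map (R.p n) ≫ α (n + 1)

variable {g' Q} (hQ : FlatMod.IsFlatOver g' Q) (R : MRes X) (R' : MRes X') [∀ n, Injective (R'.I n)]

include hQ in
theorem exists_extend (n : ℕ) (a : (Φ g' Q).obj (R.Z n) ⟶ R'.Z n) :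
    ∃ (b : (Φ g' Q).obj (R.I n) ⟶ R'.I n) (a' : (Φ g' Q).obj (R.Z (n + 1)) ⟶ R'.Z (n + 1)),
      a ≫ R'.i n = (Φ g' Q).map (R.i n) ≫ b ∧ b ≫ R'.p n = (Φ g' Q).map (R.p n) ≫ a' := by
  haveI := (R.se n).mono_f
  haveI := (R.se n).epi_g
  haveI : Mono ((Φ g' Q).map (R.i n)) := mono_Φ_map Q hQ (R.i n)
  haveI : Epi ((Φ g' Q).map (R.p n)) := inferInstance
  let b := Injective.factorThru (a ≫ R'.i n) ((Φ g' Q).map (R.i n))
  have hb : (Φ g' Q).map (R.i n) ≫ b = a ≫ R'.i n := Injective.comp_factorThru _ _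
  have hex := (R.se n).exact.map_of_epi_of_preservesCokernel (Φ g' Q) (R.se n).epi_g inferInstance
  haveI : Epi ((ShortComplex.mk (R.i n) (R.p n) (R.w n)).map (Φ g' Q)).g :=
    show Epi ((Φ g' Q).map (R.p n)) from inferInstance
  refine ⟨b, hex.desc (b ≫ R'.p n) ?_, hb.symm, (hex.g_desc _ _).symm⟩
  show (Φ g' Q).map (R.i n) ≫ b ≫ R'.p n = 0
  exact (Category.assoc _ _ _).symm.trans ((congrArg (· ≫ R'.p n) hb).trans
    ((Category.assoc _ _ _).trans ((congrArg (a ≫ ·) (R'.w n)).trans comp_zero)))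

/-- The maps on cocycles. -/
def αres (α₀ : (Φ g' Q).obj (R.Z 0) ⟶ R'.Z 0) : ∀ n, (Φ g' Q).obj (R.Z n) ⟶ R'.Z n
  | 0 => α₀
  | n + 1 => (exists_extend hQ R R' n (αres α₀ n)).choose_spec.choose

/-- A morphism of resolutions extending `α₀`. -/
def gres (α₀ : (Φ g' Q).obj (R.Z 0) ⟶ R'.Z 0) : GData g' Q R R' where
  α := αres hQ R R' α₀
  β n := (exists_extend hQ R R' n (αres hQ R R' α₀ n)).choose
  comm₁ n := (exists_extend hQ R R' n (αres hQ R R' α₀ n)).choose_spec.choose_spec.1
  comm₂ n := (exists_extend hQ R R' n (αres hQ R R' α₀ n)).choose_spec.choose_spec.2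

end Groth.Agent.LeadTBC
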